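import Mathlib.CategoryTheory.EffectiveEpi.Basic
import Mathlib.CategoryTheory.MorphismProperty.Limits
import Mathlib.CategoryTheory.Limits.Shapes.Pullback.IsPullback.Basic
import Mathlib.CategoryTheory.Limits.Shapes.BinaryProducts

/-!
# Universal effective epimorphisms
-/

set_option autoImplicit false

open CategoryTheory Limits

namespace GrothLib.UnivEE

universe v u

variable {C : Type u} [Category.{v} C]

/-- universal effective epimorphisms -/
abbrev UEE (C : Type u) [Category.{v} C] : MorphismProperty C :=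
  MorphismProperty.universally (fun (A B : C) (p : A ⟶ B) => EffectiveEpi p)

theorem effectiveEpi_mk {X Y : C} (f : X ⟶ Y) [Epi f]
    (h : ∀ {T : C} (e : X ⟶ T), (∀ {W : C} (a b : W ⟶ X), a ≫ f = b ≫ f → a ≫ e = b ≫ e) →
      ∃ d : Y ⟶ T, f ≫ d = e) : EffectiveEpi f :=
  ⟨⟨{ desc := fun e he => (h e (fun a b => he a b)).choose
      fac := fun e he => (h e (fun a b => he a b)).choose_spec
      uniq := fun e he m hm =>
        (cancel_epi f).1 (hm.trans (h e (fun a b => he a b)).choose_spec.symm) }⟩⟩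

theorem UEE.effectiveEpi {X Y : C} {f : X ⟶ Y} (hf : UEE C f) : EffectiveEpi f :=
  hf (𝟙 _) (𝟙 _) f IsPullback.of_id_snd

theorem UEE.epi {X Y : C} {f : X ⟶ Y} (hf : UEE C f) : Epi f :=
  haveI := hf.effectiveEpi
  inferInstance

theorem UEE.of_isPullback {X Y X' Y' : C} {f : X ⟶ Y} {f' : X' ⟶ Y'} {i₁ : X' ⟶ X} {i₂ : Y' ⟶ Y}
    (h : IsPullback f' i₁ i₂ f) (hf : UEE C f) : UEE C f' :=
  fun _ _ j₁ j₂ f'' h' => hf (j₁ ≫ i₁) (j₂ ≫ i₂) f'' (h'.paste_vert h)

theorem UEE.universally_epi {X Y : C} {f : X ⟶ Y} (hf : UEE C f) :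
    MorphismProperty.universally (MorphismProperty.epimorphisms C) f :=
  fun _ _ i₁ i₂ f' h => haveI := hf i₁ i₂ f' h; MorphismProperty.epimorphisms.infer_property f'

variable [HasPullbacks C]

theorem exists_cover {U T W : C} (v : U ⟶ T) (hv : MorphismProperty.universally (MorphismProperty.epimorphisms C) v)
    (a : W ⟶ T) : ∃ (P : C) (c : P ⟶ W) (x : P ⟶ U), Epi c ∧ x ≫ v = c ≫ a :=
  ⟨pullback v a, pullback.snd v a, pullback.fst v a,
    hv _ _ _ (IsPullback.of_hasPullback v a).flip, pullback.condition⟩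

theorem effectiveEpi_comp {U T S : C} (v : U ⟶ T) (u : T ⟶ S) [EffectiveEpi u] [EffectiveEpi v]
    (hv : MorphismProperty.universally (MorphismProperty.epimorphisms C) v) : EffectiveEpi (v ≫ u) := by
  refine effectiveEpi_mk _ fun e he => ?_
  have h1 : v ≫ EffectiveEpi.desc v e (fun a b h => he a b (by rw [reassoc_of% h])) = e :=
    EffectiveEpi.fac _ _ _
  set d := EffectiveEpi.desc v e (fun a b h => he a b (by rw [reassoc_of% h]))
  refine ⟨EffectiveEpi.desc u d (fun {W} a b hab => ?_), by rw [Category.assoc, EffectiveEpi.fac, h1]⟩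
  obtain ⟨P, c, x, _, hx⟩ := exists_cover v hv a
  obtain ⟨P', c', y, _, hy⟩ := exists_cover v hv (c ≫ b)
  have h2 : (c' ≫ x) ≫ e = y ≫ e := he _ _ (by
    rw [Category.assoc, reassoc_of% hx, reassoc_of% hy, hab])
  rw [← cancel_epi c, ← cancel_epi c', ← reassoc_of% hx, ← reassoc_of% hy, h1]
  simpa using h2

theorem UEE.comp {U T S : C} {v : U ⟶ T} {u : T ⟶ S} (hv : UEE C v) (hu : UEE C u) : UEE C (v ≫ u) := by
  intro X' Y' i₁ i₂ f' h
  let φ : X' ⟶ pullback i₂ u := pullback.lift f' (i₁ ≫ v) (by simpa using h.w)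
  have hb := IsPullback.of_hasPullback i₂ u
  have ht : IsPullback φ i₁ (pullback.snd i₂ u) v := by
    refine IsPullback.of_right (h₁₂ := pullback.fst i₂ u) (h₂₂ := u) ?_ (pullback.lift_snd _ _ _) hb
    rw [show φ ≫ pullback.fst i₂ u = f' from pullback.lift_fst _ _ _]
    exact h
  haveI := hu _ _ _ hb
  have hφ : UEE C φ := UEE.of_isPullback ht hv
  haveI := hφ.effectiveEpi
  have := effectiveEpi_comp φ (pullback.fst i₂ u) hφ.universally_epi
  rwa [pullback.lift_fst] at this

theorem UEE.of_comp {U T S : C} {v : U ⟶ T} {u : T ⟶ S} (h : UEE C (v ≫ u)) : UEE C u := by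
  intro X' Y' i₁ i₂ f' hp
  let φ : pullback v i₁ ⟶ X' := pullback.snd v i₁
  have hc : UEE C (φ ≫ f') :=
    UEE.of_isPullback ((IsPullback.of_hasPullback v i₁).flip.paste_horiz hp) h
  haveI := hc.epi
  haveI : Epi f' := epi_of_epi φ f'
  refine effectiveEpi_mk _ fun e he => ?_
  haveI := hc.effectiveEpi
  refine ⟨EffectiveEpi.desc (φ ≫ f') (φ ≫ e) (fun a b hab => by
    rw [← Category.assoc, ← Category.assoc]; exact he _ _ (by simpa using hab)), ?_⟩
  obtain ⟨P, c, x, _, hx⟩ := exists_cover (φ ≫ f') hc.universally_epi f'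
  rw [← cancel_epi c, ← reassoc_of% hx]
  refine Eq.trans ?_ (he (x ≫ φ) c (by simpa using hx))
  have := EffectiveEpi.fac (φ ≫ f') (φ ≫ e) (fun a b hab => by
    rw [← Category.assoc, ← Category.assoc]; exact he _ _ (by simpa using hab))
  simp only [Category.assoc] at this ⊢
  rw [this]

theorem UEE.prodMap [HasBinaryProducts C] {X Y X' Y' : C} {u : X ⟶ Y} {u' : X' ⟶ Y'} (hu : UEE C u)
    (hu' : UEE C u') : UEE C (prod.map u u') := by
  have h₁ : UEE C (prod.map u (𝟙 X')) := by
    refine UEE.of_isPullback (i₁ := Limits.prod.fst) (i₂ := Limits.prod.fst) ?_ hu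
    refine IsPullback.of_isLimit (c := PullbackCone.mk _ _ (prod.map_fst u (𝟙 X')))
      (PullbackCone.IsLimit.mk _ (fun s => prod.lift s.snd (s.fst ≫ Limits.prod.snd)) (fun s => ?_) (fun s => by simp [prod.lift_fst, prod.lift_snd])
        (fun s m h₁ h₂ => ?_))
    · ext <;> simp [s.condition, prod.lift_fst, prod.lift_snd, prod.lift_fst_assoc, prod.lift_snd_assoc]
    · ext
      · simp [h₂, prod.lift_fst, prod.lift_snd]
      · simp [← h₁, prod.lift_fst, prod.lift_snd]
  have h₂ : UEE C (prod.map (𝟙 Y) u') := by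
    refine UEE.of_isPullback (i₁ := Limits.prod.snd) (i₂ := Limits.prod.snd) ?_ hu'
    refine IsPullback.of_isLimit (c := PullbackCone.mk _ _ (prod.map_snd (𝟙 Y) u'))
      (PullbackCone.IsLimit.mk _ (fun s => prod.lift (s.fst ≫ Limits.prod.fst) s.snd) (fun s => ?_) (fun s => by simp [prod.lift_fst, prod.lift_snd])
        (fun s m h₁ h₂ => ?_))
    · ext <;> simp [s.condition, prod.lift_fst, prod.lift_snd, prod.lift_fst_assoc, prod.lift_snd_assoc]
    · ext
      · simp [← h₁, prod.lift_fst, prod.lift_snd]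
      · simp [h₂, prod.lift_fst, prod.lift_snd]
  have := h₁.comp h₂
  rwa [prod.map_map, Category.comp_id, Category.id_comp] at this

theorem mono_of_cover {X S T : C} {f : X ⟶ S} (hf : UEE C f) (g : S ⟶ T)
    (h : ∀ {W : C} (a b : W ⟶ X), a ≫ f ≫ g = b ≫ f ≫ g → a ≫ f = b ≫ f) : Mono g := by
  refine ⟨fun {W} a b hab => ?_⟩
  obtain ⟨P, c, x, _, hx⟩ := exists_cover f hf.universally_epi a
  obtain ⟨P', c', y, _, hy⟩ := exists_cover f hf.universally_epi (c ≫ b)
  have := h (c' ≫ x) y (by rw [Category.assoc, reassoc_of% hx, reassoc_of% hy, hab])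
  rw [Category.assoc, hx, hy, cancel_epi, cancel_epi] at this
  exact this

end GrothLib.UnivEE
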